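import Cfsg.Agent.HalfClasses.Shape
import Cfsg.Agent.FourGroupGW.Main
import Cfsg.Agent.Chars.RootValuesS4
import Cfsg.Agent.Chars.Count

/-!
A group without odd core with exactly `|P|/2` classes of 2-elements is, modulo its centre, `A₄`, `S₄` or almost
simple with socle `PSL(2, q)`, `q ≡ 3, 5 (mod 8)`.
-/

set_option autoImplicit false
set_option linter.unusedSectionVars false
set_option linter.style.haveILetI false

namespace Cfsg.Lib.HalfClasses

open Subgroup
open scoped commutatorElement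
open Cfsg.Agent.S3895 (Cl clMk two_of_mem exists_rep two_of_isConj)
open Cfsg.Lib.GenDihedral (NoOdd noOdd_sub)

universe u

/-- The conclusion, for the quotient by the centre. -/
def Concl (X : Type u) [Group X] : Prop :=
  Nonempty (X ≃* ↥(alternatingGroup (Fin 4))) ∨ Nonempty (X ≃* Equiv.Perm (Fin 4)) ∨
    ∃ S : Subgroup X, S.Normal ∧ IsSimpleGroup ↥S ∧ ¬ IsMulCommutative ↥S ∧
      Subgroup.centralizer (S : Set X) = ⊥ ∧
      ∃ (F : Type) (_ : Field F) (_ : Fintype F), 3 < Fintype.card F ∧ (Fintype.card F % 8 = 3 ∨ Fintype.card F % 8 = 5) ∧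
        Nonempty (↥S ≃* Matrix.ProjectiveSpecialLinearGroup (Fin 2) F)

theorem Concl.congr {X Y : Type u} [Group X] [Group Y] (e : X ≃* Y) (h : Concl X) : Concl Y := by
  rcases h with ⟨⟨f⟩⟩ | ⟨⟨f⟩⟩ | ⟨S, hn, hs, hna, hc, F, i1, i2, h3, h8, ⟨f⟩⟩
  · exact Or.inl ⟨e.symm.trans f⟩
  · exact Or.inr (Or.inl ⟨e.symm.trans f⟩)
  · set eS := S.equivMapOfInjective e.toMonoidHom e.injective
    refine Or.inr (Or.inr ⟨S.map e.toMonoidHom, hn.map _ e.surjective, ?_, ?_, ?_, F, i1, i2, h3, h8, ⟨eS.symm.trans f⟩⟩)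
    · haveI := hs
      haveI : Nontrivial ↥(S.map e.toMonoidHom) := eS.symm.toEquiv.nontrivial
      exact IsSimpleGroup.isSimpleGroup_of_surjective eS.toMonoidHom eS.surjective
    · intro hcm
      exact hna ⟨⟨fun a b => eS.injective (by rw [map_mul, map_mul]; exact hcm.is_comm.comm _ _)⟩⟩
    · refine eq_bot_iff.2 fun y hy => ?_
      have : e.symm y ∈ Subgroup.centralizer (S : Set X) := mem_centralizer_iff.2 fun s hs' => by
        apply e.injective
        rw [map_mul, map_mul, e.apply_symm_apply]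
        exact mem_centralizer_iff.1 hy (e s) (mem_map_of_mem e.toMonoidHom hs')
      rw [hc, mem_bot] at this
      rw [mem_bot, ← e.apply_symm_apply y, this, map_one]

variable {G : Type u} [Group G] [Finite G]

/-- A finite 2-group does not have half as many classes as elements. -/
theorem two_mul_classes_ne {k : ℕ} (hG : Nat.card G = 2 ^ k) : 2 * Nat.card (ConjClasses G) ≠ Nat.card G := by
  classical
  intro h
  have key : (Nat.card G : ZMod 3) = (Nat.card (ConjClasses G) : ZMod 3) := by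
    rw [← Cfsg.Lib.Chars.sum_deg_sq_nat (G := G), ← Cfsg.Lib.Chars.card_irrCharacter, Nat.card_eq_fintype_card,
      Nat.cast_sum, ← Finset.card_univ, Finset.card_eq_sum_ones, Nat.cast_sum]
    refine Finset.sum_congr rfl fun χ _ => ?_
    have hd : Cfsg.Lib.Chars.deg (χ : G → ℂ) ∣ 2 ^ k := hG ▸ Cfsg.Lib.Chars.IsIrrCharacter.deg_dvd χ.2
    obtain ⟨j, -, hj⟩ := (Nat.dvd_prime_pow Nat.prime_two).1 hd
    rw [hj, ← pow_mul, mul_comm, pow_mul, Nat.cast_pow, show ((2 ^ 2 : ℕ) : ZMod 3) = 1 from rfl, one_pow, Nat.cast_one]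
  rw [← h] at key
  have h3 : (Nat.card (ConjClasses G) : ZMod 3) = 0 := by
    push_cast at key
    linear_combination key
  rw [ZMod.natCast_eq_zero_iff] at h3
  have : 3 ∣ 2 ^ k := hG ▸ h ▸ h3.mul_left 2
  exact absurd (Nat.prime_three.dvd_of_dvd_pow this) (by norm_num)

theorem noOdd_of_core (hO : Cfsg.pPrimeCore 2 G = ⊥) : NoOdd G := fun _ hn ho =>
  le_bot_iff.1 (hO ▸ @Cfsg.Lib.Components.le_pPrimeCore _ _ 2 _ hn (Nat.coprime_two_right.2 ho))

/-- Every non-identity element of `P` has another conjugate in `P`: the centre is trivial. -/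
theorem center_bot (P : Sylow 2 G) (hO : Cfsg.pPrimeCore 2 G = ⊥)
    (hall : ∀ z ∈ (P : Subgroup G), z ≠ 1 → ∃ y ∈ (P : Subgroup G), y ≠ z ∧ IsConj z y) : center G = ⊥ := by
  haveI : Fact (Nat.Prime 2) := ⟨Nat.prime_two⟩
  by_contra hne
  by_cases h2 : 2 ∣ Nat.card (center G)
  · obtain ⟨t, ht⟩ := exists_prime_orderOf_dvd_card' 2 h2
    have ht' : orderOf (t : G) = 2 := by rw [orderOf_coe, ht]
    obtain ⟨R, hR⟩ := (IsPGroup.of_card (p := 2) (n := 1) (show Nat.card (zpowers (t : G)) = 2 ^ 1 by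
      rw [Nat.card_zpowers, ht', pow_one])).exists_le_sylow
    obtain ⟨g, hg⟩ := MulAction.exists_smul_eq G R P
    have hc : ∀ x : G, x * t = t * x := mem_center_iff.1 t.2
    have htP : (t : G) ∈ (P : Subgroup G) := by
      rw [← hg, Sylow.coe_subgroup_smul]
      exact ⟨t, hR (mem_zpowers _), show g * (t : G) * g⁻¹ = t by rw [hc g, mul_inv_cancel_right]⟩
    obtain ⟨y, -, hyt, hcy⟩ := hall t htP fun e => by rw [e, orderOf_one] at ht'; omega
    obtain ⟨x, hx⟩ := isConj_iff.1 hcy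
    exact hyt (by rw [← hx, hc x, mul_inv_cancel_right])
  · exact hne (noOdd_of_core hO _ inferInstance (Nat.odd_iff.2 (Nat.two_dvd_ne_zero.1 h2)))

theorem concl_of_small {X : Type u} [Group X] [Finite X] (L : Subgroup X) (hLn : L.Normal)
    (hs : IsSimpleGroup ↥L) (hns : ¬ Group.IsSolvable ↥L) (hc : centralizer (L : Set X) = ⊥)
    (hL : Cfsg.Lib.GWFour.IsSmallSylowPSL ↥L) : Concl X := by
  obtain ⟨F, i1, i2, h8, h5, he⟩ := hL
  exact Or.inr (Or.inr ⟨L, hLn, hs, fun h => hns (Group.isSolvable_of_comm fun a b => h.is_comm.comm a b), hc,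
    F, i1, i2, by omega, h8, he⟩)

/-- Four-group case. -/
theorem klein_case (P : Sylow 2 G) (hS : IsKleinFour ↥(P : Subgroup G)) (hO : Cfsg.pPrimeCore 2 G = ⊥)
    (hZ : center G = ⊥) : Concl G := by
  haveI : Fact (Nat.Prime 2) := ⟨Nat.prime_two⟩
  by_cases hs : Group.IsSolvable G
  · rcases Cfsg.Lib.GWFour.solvable_shape P hS (noOdd_of_core hO) hs with h | h
    · exfalso
      haveI := hS
      have hP : (P : Subgroup G) = ⊤ := eq_top_of_card_eq _ (by rw [IsKleinFour.card_four, h])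
      have : center G = ⊤ := eq_top_iff.2 fun x _ => mem_center_iff.2 fun y => congrArg Subtype.val
        (Cfsg.Lib.GWFour.comm_of_klein (⟨y, hP ▸ mem_top y⟩ : ↥(P : Subgroup G)) ⟨x, hP ▸ mem_top x⟩)
      rw [hZ] at this
      have h1 := congrArg (fun H : Subgroup G => Nat.card H) this
      simp only [card_bot, card_top, h] at h1
      omega
    · exact Or.inl h
  · obtain ⟨L, hLn, hLs, hLns, hPL, -, hLc⟩ := Cfsg.Lib.GWFour.minimal_normal P hS (noOdd_of_core hO) hs
    haveI := hLs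
    exact concl_of_small L hLn hLs hLns hLc (Cfsg.Lib.GW.fourGroupProp ↥L (P.subtype hPL) (by
      haveI := hS
      have e : ↥((P.subtype hPL : Sylow 2 ↥L) : Subgroup ↥L) ≃* ↥(P : Subgroup G) := subgroupOfEquivOfLe hPL
      exact ⟨by rw [Nat.card_congr e.toEquiv]; exact IsKleinFour.card_four,
        by rw [Monoid.exponent_eq_of_mulEquiv e]; exact IsKleinFour.exponent_two⟩))

theorem alt_four_sq : ∀ a b : ↥(alternatingGroup (Fin 4)), a * a = 1 → b * b = 1 → a * b * (a * b) = 1 := by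
  decide +kernel

theorem alt_four_cent : ∀ a : ↥(alternatingGroup (Fin 4)), (∀ b : ↥(alternatingGroup (Fin 4)), b * b = 1 → b * a = a * b) → a * a = 1 := by
  decide +kernel

/-- Dihedral case. -/
theorem eight_case (P : Sylow 2 G) (h8 : Nat.card ↥(P : Subgroup G) = 8) (V : Subgroup G)
    (hVP : V ≤ (P : Subgroup G)) (hV : IsKleinFour ↥V)
    (hCV : ∀ p ∈ (P : Subgroup G), p ∈ centralizer (V : Set G) → p ∈ V)
    (hdiff : ∀ x ∈ (P : Subgroup G), ∀ y ∈ (P : Subgroup G), IsConj x y → x⁻¹ * y ∈ V)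
    (hO : Cfsg.pPrimeCore 2 G = ⊥) (hZ : center G = ⊥) : Concl G := by
  classical
  haveI : Fact (Nat.Prime 2) := ⟨Nat.prime_two⟩
  haveI := hV
  have hV4 : Nat.card V = 4 := IsKleinFour.card_four
  have hrel : V.relIndex (P : Subgroup G) = 2 := by
    have h := relIndex_mul_relIndex ⊥ V (P : Subgroup G) bot_le hVP
    rw [relIndex_bot_left, relIndex_bot_left, hV4, h8] at h
    omega
  have hfoc : focalSubgroup (P : Subgroup G) ≤ V := by
    rw [focalSubgroup_def, closure_le]
    rintro _ ⟨hmem, x, hx, w, rfl⟩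
    have e : ⁅x, w⁆ = x⁻¹⁻¹ * (w * x⁻¹ * w⁻¹) := by rw [commutatorElement_def]; group
    rw [SetLike.mem_coe, e]
    refine hdiff x⁻¹ (inv_mem hx) _ ?_ (isConj_iff.2 ⟨w, rfl⟩)
    have h := mul_mem (inv_mem hx) hmem
    rw [commutatorElement_def] at h
    simpa [mul_assoc] using h
  obtain ⟨N, hNn, hNP, hNsup, -, hidx⟩ := Cfsg.Lib.Transfer.exists_normal_inf_eq (P : Subgroup G) V hVP hfoc
    (by rw [hrel]; exact Nat.coprime_two_right.2 (Nat.odd_iff.2 (Nat.two_dvd_ne_zero.1 P.not_dvd_index)))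
  rw [hrel] at hidx
  haveI := hNn
  have hNc : Nat.card N * 2 = Nat.card G := by rw [← hidx]; exact N.card_mul_index
  have hVN : V ≤ N := hNP ▸ inf_le_left
  have hN8 : 4 ∣ Nat.card N ∧ ¬ 8 ∣ Nat.card N := by
    refine ⟨hV4 ▸ card_dvd_of_le hVN, fun h => ?_⟩
    have h16 : 8 * 2 ∣ Nat.card G := hNc ▸ mul_dvd_mul_right h 2
    rw [← (P : Subgroup G).card_mul_index, h8] at h16
    exact P.not_dvd_index (Nat.dvd_of_mul_dvd_mul_left (by norm_num) h16)
  obtain ⟨T₀, hT₀⟩ := (IsPGroup.of_card (p := 2) (n := 2) (show Nat.card (V.subgroupOf N) = 2 ^ 2 by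
    rw [Nat.card_congr (subgroupOfEquivOfLe hVN).toEquiv, hV4]; rfl)).exists_le_sylow
  have hT₀e : V.subgroupOf N = (T₀ : Subgroup N) := Subgroup.eq_of_le_of_card_ge hT₀ (le_of_eq (by
    rw [Cfsg.Lib.GWFour.sylow_card_of hN8.1 hN8.2 T₀, Nat.card_congr (subgroupOfEquivOfLe hVN).toEquiv, hV4]))
  have hT₀k : IsKleinFour ↥(T₀ : Subgroup N) := by
    have e : ↥(T₀ : Subgroup N) ≃* ↥V := (MulEquiv.subgroupCongr hT₀e.symm).trans (subgroupOfEquivOfLe hVN)
    exact ⟨by rw [Nat.card_congr e.toEquiv, hV4],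
      by rw [Monoid.exponent_eq_of_mulEquiv e]; exact IsKleinFour.exponent_two⟩
  have hON := noOdd_sub (noOdd_of_core hO) N
  -- a normal subgroup meeting `N` trivially is trivial
  have hmeet : ∀ C : Subgroup G, C.Normal → C ⊓ N = ⊥ → C = ⊥ := by
    intro C hC hCN
    rw [← le_bot_iff, ← hZ]
    intro c hc
    refine mem_center_iff.2 fun g => ?_
    by_cases hc1 : c = 1
    · rw [hc1, one_mul, mul_one]
    have huniq : ∀ d ∈ C, d ≠ 1 → d = c := by
      intro d hd hd1
      have hdN : d ∉ N := fun h => hd1 (by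
        have : d ∈ C ⊓ N := ⟨hd, h⟩
        rwa [hCN, mem_bot] at this)
      have hcN : c ∉ N := fun h => hc1 (by
        have : c ∈ C ⊓ N := ⟨hc, h⟩
        rwa [hCN, mem_bot] at this)
      have hdc : d⁻¹ * c ∈ C ⊓ N := ⟨C.mul_mem (C.inv_mem hd) hc,
        (mul_mem_iff_of_index_two hidx).2 (iff_of_false (fun h => hdN (inv_inv d ▸ inv_mem h)) hcN)⟩
      rw [hCN, mem_bot] at hdc
      exact inv_mul_eq_one.1 hdc
    exact mul_inv_eq_iff_eq_mul.1 (huniq _ (hC.conj_mem c hc g) fun e => hc1 (conj_eq_one_iff.1 e))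
  by_cases hs : Group.IsSolvable ↥N
  · rcases Cfsg.Lib.GWFour.solvable_shape T₀ hT₀k hON hs with h | ⟨⟨e⟩⟩
    · exfalso
      have hP : (P : Subgroup G) = ⊤ := eq_top_of_card_eq _ (by rw [h8, ← hNc, h])
      haveI : Nontrivial G := Finite.one_lt_card_iff_nontrivial.1 (by rw [← hNc, h]; norm_num)
      have hG : IsPGroup 2 G := IsPGroup.of_card (p := 2) (n := 3) (by rw [← hNc, h]; rfl)
      haveI := hG.center_nontrivial
      obtain ⟨c, hc⟩ := exists_ne (1 : center G)
      have := c.2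
      simp only [hZ, mem_bot] at this
      exact hc (Subtype.ext this)
    have h12 : Nat.card N = 12 := by
      rw [Nat.card_congr e.toEquiv, Nat.card_eq_fintype_card]; decide +kernel
    let W : Subgroup G :=
      { carrier := {x | x ∈ N ∧ x * x = 1}
        one_mem' := ⟨one_mem _, one_mul _⟩
        mul_mem' := fun {a b} ha hb => ⟨N.mul_mem ha.1 hb.1, by
          have := alt_four_sq (e ⟨a, ha.1⟩) (e ⟨b, hb.1⟩)
            (by rw [← map_mul]; exact (congrArg e (Subtype.ext ha.2)).trans (map_one e))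
            (by rw [← map_mul]; exact (congrArg e (Subtype.ext hb.2)).trans (map_one e))
          rw [← map_mul, ← map_mul, map_eq_one_iff e e.injective] at this
          exact congrArg Subtype.val this⟩
        inv_mem' := fun {a} ha => ⟨N.inv_mem ha.1, by rw [← _root_.mul_inv_rev, ha.2, inv_one]⟩ }
    haveI hWn : W.Normal := ⟨fun x hx g => ⟨hNn.conj_mem x hx.1 g, by
      rw [show g * x * g⁻¹ * (g * x * g⁻¹) = g * (x * x) * g⁻¹ by group, hx.2, mul_one, mul_inv_cancel]⟩⟩
    have hVW : V ≤ W := fun v hv => ⟨hVN hv, congrArg Subtype.val (Cfsg.Lib.GWFour.sq_of_klein (⟨v, hv⟩ : ↥V))⟩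
    have hW2 : IsPGroup 2 W := fun x => ⟨1, Subtype.ext (by
      rw [pow_one, Subgroup.coe_pow, pow_two]; exact x.2.2)⟩
    have hWV : W = V := by
      obtain ⟨j, hj⟩ := IsPGroup.iff_card.1 hW2
      have h1 : 2 ^ j ∣ Nat.card N := hj ▸ card_dvd_of_le (fun x (hx : x ∈ W) => hx.1)
      have hj3 : j < 3 := by
        by_contra hcon
        exact hN8.2 ((pow_dvd_pow 2 (not_lt.1 hcon)).trans h1)
      refine (Subgroup.eq_of_le_of_card_ge hVW ?_).symm
      rw [hj, hV4]
      calc 2 ^ j ≤ 2 ^ 2 := Nat.pow_le_pow_right two_pos (by omega)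
        _ = 4 := rfl
    haveI : V.Normal := hWV ▸ hWn
    have hCN : centralizer (V : Set G) ⊓ N ≤ V := by
      rintro c ⟨hc, hcN⟩
      rw [← hWV]
      refine ⟨hcN, ?_⟩
      have := alt_four_cent (e ⟨c, hcN⟩) fun b hb => by
        obtain ⟨⟨v, hv⟩, rfl⟩ := e.surjective b
        rw [← map_mul, map_eq_one_iff e e.injective] at hb
        rw [← map_mul, ← map_mul]
        refine congrArg e (Subtype.ext ?_)
        exact mem_centralizer_iff.1 hc v (hWV ▸ (⟨hv, congrArg Subtype.val hb⟩ : v ∈ W))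
      rw [← map_mul, map_eq_one_iff e e.injective] at this
      exact congrArg Subtype.val this
    have hC2 : IsPGroup 2 ↥(centralizer (V : Set G)) := by
      intro x
      have hx2 : (x : G) * x ∈ centralizer (V : Set G) ⊓ N :=
        ⟨mul_mem x.2 x.2, (mul_mem_iff_of_index_two hidx).2 Iff.rfl⟩
      refine ⟨2, Subtype.ext ?_⟩
      rw [Subgroup.coe_pow, show ((x : G)) ^ 2 ^ 2 = (x : G) * x * ((x : G) * x) by
        rw [pow_two 2, pow_mul, pow_two, pow_two]]
      exact congrArg Subtype.val (Cfsg.Lib.GWFour.sq_of_klein (⟨_, hCN hx2⟩ : ↥V))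
    have hC : centralizer (V : Set G) ≤ V := by
      intro x hx
      obtain ⟨R, hR⟩ := hC2.exists_le_sylow
      obtain ⟨g, hg⟩ := MulAction.exists_smul_eq G R P
      have hx' : g * x * g⁻¹ ∈ V := hCV _ (by rw [← hg, Sylow.coe_subgroup_smul]; exact ⟨x, hR hx, rfl⟩)
        ((inferInstance : (centralizer (V : Set G)).Normal).conj_mem x hx g)
      have := (inferInstance : V.Normal).conj_mem _ hx' g⁻¹
      rwa [show g⁻¹ * (g * x * g⁻¹) * g⁻¹⁻¹ = x by group] at this
    exact Or.inr (Or.inl (Cfsg.Lib.Chars.s4_structure (by rw [← hNc, h12]) V hV4 hC).1)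
  · obtain ⟨L, hLn, hLs, hLns, hTL, -, hLc⟩ := Cfsg.Lib.GWFour.minimal_normal T₀ hT₀k hON hs
    haveI := hLs
    haveI := hLn
    set L' := L.map N.subtype with hL'
    set eL := L.equivMapOfInjective N.subtype N.subtype_injective
    have hL'n : L'.Normal := by
      refine ⟨?_⟩
      rintro _ ⟨l, hl, rfl⟩ g
      let γ : MulAut ↥N := MulAut.conjNormal g
      set M := L.map γ.toMonoidHom with hM
      haveI : M.Normal := hLn.map _ γ.surjective
      have hMc : Nat.card M = Nat.card L := card_map_of_injective γ.injective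
      haveI : (M.subgroupOf L).Normal := inferInstance
      have hLM : L ≤ M := by
        rcases Normal.eq_bot_or_eq_top (H := M.subgroupOf L) inferInstance with h | h
        · exfalso
          rw [subgroupOf_eq_bot] at h
          have hMC : M ≤ centralizer (L : Set ↥N) := fun m hm => mem_centralizer_iff.2 fun v hv =>
            Subgroup.commute_of_normal_of_disjoint L M hLn inferInstance h.symm v m hv hm
          rw [hLc, le_bot_iff] at hMC
          rw [hMC, card_bot] at hMc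
          haveI : Nontrivial ↥L := hLs.toNontrivial
          exact absurd hMc.symm (by have := Finite.one_lt_card (α := ↥L); omega)
        · exact subgroupOf_eq_top.1 h
      have hLM' : L = M := Subgroup.eq_of_le_of_card_ge hLM hMc.le
      refine ⟨γ l, ?_, MulAut.conjNormal_apply g l⟩
      rw [SetLike.mem_coe, hLM']
      exact mem_map_of_mem _ hl
    have hs' : IsSimpleGroup ↥L' := by
      haveI : Nontrivial ↥L' := eL.symm.toEquiv.nontrivial
      exact IsSimpleGroup.isSimpleGroup_of_surjective eL.toMonoidHom eL.surjective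
    have hns' : ¬ Group.IsSolvable ↥L' := fun h => hLns (by
      haveI := h
      exact Group.isSolvable_of_isSolvable_injective (f := eL.toMonoidHom) eL.injective)
    have hC' : centralizer (L' : Set G) = ⊥ := by
      haveI := hL'n
      refine hmeet _ inferInstance (eq_bot_iff.2 ?_)
      rintro c ⟨hc, hcN⟩
      have : (⟨c, hcN⟩ : ↥N) ∈ centralizer (L : Set ↥N) := mem_centralizer_iff.2 fun v hv =>
        Subtype.ext (mem_centralizer_iff.1 hc (v : G) ⟨v, hv, rfl⟩)
      rw [hLc, mem_bot] at this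
      exact mem_bot.2 (congrArg Subtype.val this)
    have hsm := Cfsg.Lib.GW.fourGroupProp ↥L (T₀.subtype hTL) (by
      haveI := hT₀k
      have e : ↥((T₀.subtype hTL : Sylow 2 ↥L) : Subgroup ↥L) ≃* ↥(T₀ : Subgroup N) := subgroupOfEquivOfLe hTL
      exact ⟨by rw [Nat.card_congr e.toEquiv]; exact IsKleinFour.card_four,
        by rw [Monoid.exponent_eq_of_mulEquiv e]; exact IsKleinFour.exponent_two⟩)
    obtain ⟨F, i1, i2, h8', h5, ⟨f⟩⟩ := hsm
    exact concl_of_small L' hL'n hs' hns' hC' ⟨F, i1, i2, h8', h5, ⟨eL.symm.trans f⟩⟩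

theorem main : ∀ (n : ℕ) (G : Type u) [Group G] [Finite G], Nat.card G = n → Cfsg.pPrimeCore 2 G = ⊥ →
    ∀ P : Sylow 2 G, 2 * Nat.card (Cl G) = Nat.card ↥(P : Subgroup G) → Concl (G ⧸ center G) := by
  intro n
  induction n using Nat.strong_induction_on with
  | _ n ih =>
  intro G _ _ hG hO P hk
  classical
  haveI : Fact (Nat.Prime 2) := ⟨Nat.prime_two⟩
  by_cases hall : ∀ z ∈ (P : Subgroup G), z ≠ 1 → ∃ y ∈ (P : Subgroup G), y ≠ z ∧ IsConj z y
  · have hZ := center_bot P hO hall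
    refine Concl.congr ((QuotientGroup.quotientMulEquivOfEq hZ).trans QuotientGroup.quotientBot).symm ?_
    rcases shape P hall hk with h | ⟨h8, V, hVP, hV, hCV, hdiff⟩
    · exact klein_case P h hO hZ
    · exact eight_case P h8 V hVP hV hCV hdiff hO hZ
  push_neg at hall
  obtain ⟨z, hzP, hz1, huniq⟩ := hall
  have hzc : ∀ g : G, g * z = z * g := by
    intro g
    have hI : Cfsg.Lib.ZStarApps.Isolated2 z := ⟨P, hzP, fun g hg => by
      by_contra hne
      exact huniq _ hg hne (isConj_iff.2 ⟨g, rfl⟩)⟩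
    obtain ⟨k, hk'⟩ := two_of_mem hzP
    have h := Cfsg.Lib.ZStarApps.central_of_isolated2 k z hk'.dvd hI g
    rw [hO, mem_bot, mul_inv_eq_one, mul_inv_eq_iff_eq_mul] at h
    exact h
  obtain ⟨k, hk'⟩ := two_of_mem hzP
  obtain ⟨j, rfl⟩ : ∃ j, k = j + 1 := ⟨k - 1, by
    rcases Nat.eq_zero_or_pos k with rfl | h
    · rw [pow_zero, orderOf_eq_one_iff] at hk'; exact absurd hk' hz1
    · omega⟩
  set t := z ^ 2 ^ j with ht
  have hto : orderOf t = 2 := by
    rw [ht, orderOf_pow' _ (pow_ne_zero _ two_ne_zero), hk', Nat.gcd_eq_right (pow_dvd_pow 2 (Nat.le_succ j)),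
      Nat.pow_div (Nat.le_succ j) two_pos]
    simp
  have ht1 : t ≠ 1 := fun e => by rw [e, orderOf_one] at hto; omega
  have htP : t ∈ (P : Subgroup G) := pow_mem hzP _
  have htc : ∀ g : G, g * t = t * g := fun g => ((show Commute g z from hzc g).pow_right _).eq
  set T := zpowers t with hTdef
  have hTc : Nat.card T = 2 := by rw [hTdef, Nat.card_zpowers, hto]
  haveI hTn : T.Normal := ⟨fun w hw g => by
    obtain ⟨i, rfl⟩ := hw
    show g * t ^ i * g⁻¹ ∈ T
    rw [((show Commute g t from htc g).zpow_right i).eq, mul_inv_cancel_right]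
    exact zpow_mem_zpowers t i⟩
  have hT2 : ∀ w ∈ T, w = 1 ∨ w = t := fun w hw => by
    obtain ⟨i, rfl⟩ := hw
    show t ^ i = 1 ∨ t ^ i = t
    rw [← zpow_mod_orderOf, hto]
    rcases Int.emod_two_eq_zero_or_one i with h | h <;> simp [h]
  set π := QuotientGroup.mk' T with hπ
  have hlt : Nat.card (G ⧸ T) < n := by
    rw [← hG, Subgroup.card_eq_card_quotient_mul_card_subgroup T, hTc]
    have : 0 < Nat.card (G ⧸ T) := Nat.card_pos
    omega
  set Pq := P.mapSurjective (QuotientGroup.mk'_surjective T)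
  have hPq : 2 * Nat.card ↥(Pq : Subgroup (G ⧸ T)) = Nat.card ↥(P : Subgroup G) := by
    have hTP : T ≤ (P : Subgroup G) := zpowers_le.2 htP
    have h1 := Subgroup.relIndex_ker (K := (P : Subgroup G)) π
    rw [QuotientGroup.ker_mk'] at h1
    show 2 * Nat.card ↥((P : Subgroup G).map π) = _
    rw [← h1, ← relIndex_bot_left (P : Subgroup G), ← relIndex_mul_relIndex ⊥ T (P : Subgroup G) bot_le hTP,
      relIndex_bot_left, hTc]
  -- `O(G/T) = 1`
  set M := Cfsg.pPrimeCore 2 (G ⧸ T)
  haveI : M.Normal := Cfsg.Lib.Components.pPrimeCore_normal' 2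
  have hM0 : ∀ M : Subgroup (G ⧸ T), M.Normal → (Nat.card M).Coprime 2 → M = ⊥ := by
    intro M hMn hMc
    set M' := M.comap π with hM'
    haveI hM'n : M'.Normal := hMn.comap π
    have hTM : T ≤ M' := fun x hx => by
      show π x ∈ M
      rw [show π x = 1 from (QuotientGroup.eq_one_iff x).2 hx]; exact one_mem _
    have hrel : T.relIndex M' = Nat.card M := by
      have hr' := Subgroup.relIndex_comap (⊥ : Subgroup (G ⧸ T)) π M'
      rwa [MonoidHom.comap_bot, QuotientGroup.ker_mk', hM', Subgroup.map_comap_eq_self_of_surjective (QuotientGroup.mk'_surjective T),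
        Subgroup.relIndex_bot_left, ← hM'] at hr'
    obtain ⟨K, hKM, hKsup, hKc⟩ := Cfsg.Lib.Coprime.exists_complement_in hTM
      (by rw [Subgroup.normalizer_eq_top_iff.2 inferInstance]; exact le_top) (by rw [hrel, hTc]; exact hMc.symm)
    have hKcop : (Nat.card K).Coprime 2 := by rw [hKc, hrel]; exact hMc
    have hodd : ∀ u ∈ M', (orderOf u).Coprime 2 → u ∈ K := by
      intro u hu hu2
      rw [← hKsup] at hu
      obtain ⟨v, hv, w, hw, rfl⟩ := Subgroup.mem_sup_of_normal_left.1 hu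
      rcases hT2 v hv with rfl | rfl
      · rwa [one_mul]
      · exfalso
        have hw2 : (orderOf w).Coprime 2 := Nat.Coprime.coprime_dvd_left (by
          rw [← Subgroup.orderOf_mk w hw]; exact orderOf_dvd_natCard _) hKcop
        have hc : Commute t w := (show Commute w t from htc w).symm
        rw [hc.orderOf_mul_eq_mul_orderOf_of_coprime (hto.symm ▸ hw2.symm), hto] at hu2
        exact absurd (Nat.Coprime.coprime_dvd_left (dvd_mul_right 2 _) hu2) (by norm_num)
    haveI hKn : K.Normal := ⟨fun u hu g => hodd _ (hM'n.conj_mem u (hKM hu) g) (by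
      have h' : (orderOf u).Coprime 2 := hKcop.coprime_dvd_left (by
        rw [← Subgroup.orderOf_mk u hu]; exact orderOf_dvd_natCard _)
      rwa [show orderOf (g * u * g⁻¹) = orderOf u from (MulAut.conj g).orderOf_eq u])⟩
    have hK1 : K = ⊥ := le_bot_iff.1 (hO ▸ Cfsg.Lib.Components.le_pPrimeCore hKcop)
    rw [← Subgroup.card_eq_one, ← hrel, ← hKc, hK1, Subgroup.card_bot]
  have hOq : M = ⊥ := hM0 M inferInstance (Cfsg.Lib.Components.coprime_card_pPrimeCore 2)
  -- classes
  letI : Fintype (Cl G) := Fintype.ofFinite _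
  letI : Fintype (Cl (G ⧸ T)) := Fintype.ofFinite _
  have him : ∀ a : G, (∃ k : ℕ, orderOf a = 2 ^ k) → ∃ k : ℕ, orderOf (π a) = 2 ^ k := by
    rintro a ⟨k, hka⟩
    obtain ⟨i, -, hi⟩ := (Nat.dvd_prime_pow Nat.prime_two).1 (hka ▸ orderOf_map_dvd π a)
    exact ⟨i, hi⟩
  let f : Cl G → Cl (G ⧸ T) := fun c => ⟨ConjClasses.map π c.1, fun y hy => by
    obtain ⟨a, ha⟩ := ConjClasses.mk_surjective c.1
    have h2 := c.2 a (ha ▸ ConjClasses.mem_carrier_mk)
    rw [← ha, ConjClasses.mem_carrier_iff_mk_eq] at hy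
    exact two_of_isConj (ConjClasses.mk_eq_mk_iff_isConj.1 hy.symm) (him a h2)⟩
  have hf : ∀ (a : G) (c : Cl G), ConjClasses.mk a = c.1 → ∀ e : Cl G, f e = f c →
      e.1 = ConjClasses.mk a ∨ e.1 = ConjClasses.mk (a * t) := by
    intro a c ha e he
    obtain ⟨b, hb⟩ := ConjClasses.mk_surjective e.1
    have he' : ConjClasses.map π e.1 = ConjClasses.map π c.1 := congrArg Subtype.val he
    rw [← hb, ← ha] at he'
    obtain ⟨q, hq⟩ := isConj_iff.1 (ConjClasses.mk_eq_mk_iff_isConj.1 he')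
    obtain ⟨g, rfl⟩ := QuotientGroup.mk'_surjective T q
    rw [← map_inv, ← map_mul, ← map_mul] at hq
    have hin : a⁻¹ * (g * b * g⁻¹) ∈ T := QuotientGroup.eq.1 hq.symm
    rw [← hb, show ConjClasses.mk b = ConjClasses.mk (g * b * g⁻¹) from ConjClasses.mk_eq_mk_iff_isConj.2 (isConj_iff.2 ⟨g, rfl⟩)]
    rcases hT2 _ hin with h | h
    · left; rw [inv_mul_eq_one.1 h]
    · right; rw [inv_mul_eq_iff_eq_mul.1 h]
  have hfib : ∀ d : Cl (G ⧸ T), (Finset.univ.filter fun c => f c = d).card ≤ 2 := by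
    intro d
    by_cases hd : ∃ c, f c = d
    swap
    · push_neg at hd
      rw [Finset.filter_eq_empty_iff.2 fun c _ => hd c]; simp
    obtain ⟨c, rfl⟩ := hd
    obtain ⟨a, ha⟩ := ConjClasses.mk_surjective c.1
    refine le_trans (Finset.card_le_card_of_injOn (fun e => e.1) (t := ({ConjClasses.mk a, ConjClasses.mk (a * t)} : Finset (ConjClasses G)))
      (fun e he => ?_) (Subtype.val_injective.injOn)) Finset.card_le_two
    show e.1 ∈ _
    rcases hf a c ha e (Finset.mem_filter.1 he).2 with h | h <;> simp [h]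
  have hsum : Nat.card (Cl G) = ∑ d : Cl (G ⧸ T), (Finset.univ.filter fun c => f c = d).card := by
    rw [Nat.card_eq_fintype_card, ← Finset.card_univ]
    exact Finset.card_eq_sum_card_fiberwise fun c _ => Finset.mem_univ (f c)
  have hle : Nat.card (Cl G) ≤ 2 * Nat.card (Cl (G ⧸ T)) := by
    rw [hsum, Nat.card_eq_fintype_card (α := Cl (G ⧸ T)), ← Finset.card_univ, mul_comm]
    exact (Finset.sum_le_card_nsmul _ _ 2 fun d _ => hfib d).trans (le_of_eq (smul_eq_mul _ _))
  have heq : 2 * Nat.card (Cl (G ⧸ T)) = Nat.card ↥(Pq : Subgroup (G ⧸ T)) := by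
    by_contra hne
    have hlarge : Nat.card ↥(Pq : Subgroup (G ⧸ T)) < 2 * Nat.card (Cl (G ⧸ T)) := by omega
    have hc := ((Cfsg.Agent.S3895.result Pq).1 hlarge).1
    obtain ⟨K, hKn, hKc, i, hi⟩ := Cfsg.Lib.Transfer.hasNormalPComplement_iff.1 hc
    rw [hM0 K hKn hKc, index_bot] at hi
    have hGc : Nat.card G = 2 ^ (i + 1) := by
      rw [Subgroup.card_eq_card_quotient_mul_card_subgroup T, hTc, hi, pow_succ]
    have hPtop : (P : Subgroup G) = ⊤ := by
      have h1 : IsPGroup 2 ↥(⊤ : Subgroup G) := IsPGroup.of_card (p := 2) (n := i + 1) (by rw [card_top, hGc])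
      exact (P.is_maximal' h1 le_top).symm
    refine two_mul_classes_ne hGc ?_
    rw [hPtop, card_top] at hk
    rw [← hk]
    congr 1
    exact (Nat.card_congr (Equiv.subtypeUnivEquiv fun c x _ =>
      two_of_mem (P := P) (hPtop ▸ mem_top x))).symm
  -- no element is conjugate to its product with `t`
  have hsplit : ∀ a : G, (∃ k : ℕ, orderOf a = 2 ^ k) → ¬ IsConj a (a * t) := by
    intro a ha hcj
    set c := clMk a ha with hc
    have h1 : (Finset.univ.filter fun e => f e = f c).card ≤ 1 := Finset.card_le_one.2 fun e he e' he' => by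
      have hmk : ConjClasses.mk (a * t) = ConjClasses.mk a := ConjClasses.mk_eq_mk_iff_isConj.2 hcj.symm
      refine Subtype.ext ?_
      rcases hf a c rfl e (Finset.mem_filter.1 he).2 with h | h <;>
        rcases hf a c rfl e' (Finset.mem_filter.1 he').2 with h' | h' <;> simp [h, h', hmk]
    have hlt2 : ∑ d : Cl (G ⧸ T), (Finset.univ.filter fun e => f e = d).card < ∑ _d : Cl (G ⧸ T), 2 :=
      Finset.sum_lt_sum (fun d _ => hfib d) ⟨f c, Finset.mem_univ _, by omega⟩
    rw [← hsum, Finset.sum_const, Finset.card_univ, smul_eq_mul, ← Nat.card_eq_fintype_card] at hlt2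
    omega
  -- the centre of the quotient
  have hcent : (center (G ⧸ T)).comap π = center G := by
    refine le_antisymm (fun x hx => mem_center_iff.2 fun g => ?_) fun x hx => ?_
    · have h : g * x * g⁻¹ * x⁻¹ ∈ T := by
        rw [← QuotientGroup.eq_one_iff]
        show π (g * x * g⁻¹ * x⁻¹) = 1
        rw [map_mul, map_mul, map_mul, map_inv, map_inv, mem_center_iff.1 hx (π g), mul_inv_cancel_right, mul_inv_cancel]
      rcases hT2 _ h with e | e
      · exact mul_inv_eq_iff_eq_mul.1 (mul_inv_eq_one.1 e)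
      · exfalso
        rw [mul_inv_eq_iff_eq_mul] at e
        obtain ⟨a, m, hm, hxm⟩ := Nat.exists_eq_two_pow_mul_odd (orderOf_pos x).ne'
        have hm0 : m ≠ 0 := fun h => by rw [h] at hm; simp at hm
        refine hsplit (x ^ m) ⟨a, ?_⟩ (isConj_iff.2 ⟨g, ?_⟩)
        · rw [orderOf_pow' x hm0, hxm, Nat.gcd_eq_right (dvd_mul_left m _), Nat.mul_div_cancel _ (Nat.pos_of_ne_zero hm0)]
        · rw [← conj_pow, e, (show Commute t x from (htc x).symm).mul_pow]
          have htm : t ^ m = t := by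
            obtain ⟨i, rfl⟩ := hm
            rw [pow_succ, pow_mul, ← hto, pow_orderOf_eq_one, one_pow, one_mul]
          rw [htm, ((show Commute t x from (htc x).symm).pow_right m).eq]
    · refine mem_center_iff.2 fun q => ?_
      obtain ⟨g, rfl⟩ := QuotientGroup.mk'_surjective T q
      show π g * π x = π x * π g
      rw [← map_mul, ← map_mul, mem_center_iff.1 hx g]
  have hTZ : T ≤ center G := zpowers_le.2 (mem_center_iff.2 htc)
  have hmap : (center G).map π = center (G ⧸ T) := by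
    rw [← hcent, Subgroup.map_comap_eq_self_of_surjective (QuotientGroup.mk'_surjective T)]
  exact Concl.congr ((QuotientGroup.quotientMulEquivOfEq hmap.symm).trans
    (QuotientGroup.quotientQuotientEquivQuotient T (center G) hTZ)) (ih _ hlt (G ⧸ T) rfl hOq Pq heq)

end Cfsg.Lib.HalfClasses
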