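import Cfsg.Agent.S3895
import Cfsg.Agent.Transfer.Control
import Cfsg.Agent.GWFour.Consumers.Reduce

/-!
Groups with exactly `|P|/2` classes of 2-elements in which every non-identity 2-element is conjugate to another
element of the same Sylow subgroup: the Sylow subgroup is a four-group or dihedral of order eight.
-/

set_option autoImplicit false
set_option linter.unusedSectionVars false
set_option linter.style.haveILetI false

namespace Cfsg.Lib.HalfClasses

open Subgroup
open Cfsg.Agent.S3895 (Cl clMk two_of_mem exists_rep)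

universe u

variable {G : Type u} [Group G] [Finite G]

/-- The conjugates of `x` in `P`. -/
noncomputable def inSyl (P : Sylow 2 G) (x : G) : Finset G :=
  (Set.toFinite {y : G | y ∈ (P : Subgroup G) ∧ IsConj x y}).toFinset

theorem mem_inSyl {P : Sylow 2 G} {x y : G} : y ∈ inSyl P x ↔ y ∈ (P : Subgroup G) ∧ IsConj x y := by
  simp [inSyl]

theorem self_mem {P : Sylow 2 G} {x : G} (hx : x ∈ (P : Subgroup G)) : x ∈ inSyl P x :=
  mem_inSyl.2 ⟨hx, IsConj.refl x⟩

theorem inSyl_eq {P : Sylow 2 G} {x y : G} (h : IsConj x y) : inSyl P x = inSyl P y := by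
  ext w
  simp only [mem_inSyl]
  exact and_congr_right fun _ => ⟨fun h' => h.symm.trans h', fun h' => h.trans h'⟩

/-- All classes meet `P` twice, one of them three times. -/
theorem count_exact (P : Sylow 2 G)
    (hall : ∀ z ∈ (P : Subgroup G), z ≠ 1 → ∃ y ∈ (P : Subgroup G), y ≠ z ∧ IsConj z y)
    (hk : 2 * Nat.card (Cl G) = Nat.card ↥(P : Subgroup G)) :
    (∀ x ∈ (P : Subgroup G), x ≠ 1 → (inSyl P x).card = 2 ∨ (inSyl P x).card = 3) ∧
      ∀ x ∈ (P : Subgroup G), ∀ y ∈ (P : Subgroup G), x ≠ 1 → y ≠ 1 →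
        (inSyl P x).card = 3 → (inSyl P y).card = 3 → IsConj x y := by
  classical
  haveI : Fintype G := Fintype.ofFinite G
  let S : Finset G := Finset.univ.filter fun x => x ∈ (P : Subgroup G) ∧ x ≠ 1
  have hS : S.card + 1 = Nat.card ↥(P : Subgroup G) := by
    have h1 : Finset.univ.filter (fun x : G => x ∈ (P : Subgroup G)) = insert 1 S := by
      ext x
      simp only [S, Finset.mem_filter, Finset.mem_univ, true_and, Finset.mem_insert]
      constructor
      · intro hx; by_cases h : x = 1 <;> simp [h, hx]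
      · rintro (rfl | h)
        · exact one_mem _
        · exact h.1
    rw [Nat.card_eq_fintype_card, Fintype.card_subtype, h1, Finset.card_insert_of_notMem (by simp [S])]
  let T : Finset (ConjClasses G) := S.image ConjClasses.mk
  have h1T : ConjClasses.mk (1 : G) ∉ T := by
    intro h
    obtain ⟨x, hx, hx1⟩ := Finset.mem_image.1 h
    obtain ⟨g, hg⟩ := isConj_iff.1 (ConjClasses.mk_eq_mk_iff_isConj.1 hx1)
    exact (Finset.mem_filter.1 hx).2.2 (conj_eq_one_iff.1 hg)
  have hTk : T.card + 1 = Nat.card (Cl G) := by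
    letI : Fintype (Cl G) := Fintype.ofFinite _
    have himg : (Finset.univ : Finset (Cl G)).image Subtype.val = insert (ConjClasses.mk (1 : G)) T := by
      ext c
      simp only [Finset.mem_image, Finset.mem_univ, true_and, Finset.mem_insert]
      constructor
      · rintro ⟨d, rfl⟩
        obtain ⟨a, ha, hac⟩ := exists_rep P d
        rw [← hac]
        by_cases h1 : a = 1
        · exact Or.inl (by rw [h1])
        · exact Or.inr (Finset.mem_image.2 ⟨a, Finset.mem_filter.2 ⟨Finset.mem_univ _, ha, h1⟩, rfl⟩)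
      · rintro (rfl | h)
        · exact ⟨clMk 1 ⟨0, by simp⟩, rfl⟩
        · obtain ⟨a, ha, rfl⟩ := Finset.mem_image.1 h
          exact ⟨clMk a (two_of_mem (Finset.mem_filter.1 ha).2.1), rfl⟩
    rw [Nat.card_eq_fintype_card, ← Finset.card_univ,
      ← Finset.card_image_of_injective (Finset.univ : Finset (Cl G)) Subtype.val_injective, himg,
      Finset.card_insert_of_notMem h1T]
  have hfib : ∀ x ∈ (P : Subgroup G), x ≠ 1 →
      (S.filter fun w => ConjClasses.mk w = ConjClasses.mk x) = inSyl P x := by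
    intro x hx hx1
    ext w
    simp only [S, Finset.mem_filter, Finset.mem_univ, true_and, mem_inSyl, ConjClasses.mk_eq_mk_iff_isConj]
    constructor
    · exact fun h => ⟨h.1.1, h.2.symm⟩
    · rintro ⟨h1, h2⟩
      refine ⟨⟨h1, fun e => hx1 ?_⟩, h2.symm⟩
      rw [e] at h2
      obtain ⟨g, hg⟩ := isConj_iff.1 h2
      exact conj_eq_one_iff.1 hg
  let φ : ConjClasses G → ℕ := fun c => (S.filter fun w => ConjClasses.mk w = c).card
  have hsum : S.card = ∑ c ∈ T, φ c := Finset.card_eq_sum_card_image ConjClasses.mk S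
  have h2 : ∀ c ∈ T, 2 ≤ φ c := by
    intro c hc
    obtain ⟨x, hx, rfl⟩ := Finset.mem_image.1 hc
    obtain ⟨-, hxP, hx1⟩ := Finset.mem_filter.1 hx
    obtain ⟨y, hy, hyx, hcj⟩ := hall x hxP hx1
    show 2 ≤ Finset.card _
    rw [hfib x hxP hx1]
    refine le_trans (le_of_eq (Finset.card_pair hyx).symm) (Finset.card_le_card ?_)
    intro w hw
    rcases Finset.mem_insert.1 hw with rfl | hw
    · exact mem_inSyl.2 ⟨hy, hcj⟩
    · rw [Finset.mem_singleton] at hw; subst hw; exact self_mem hxP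
  have hex : ∑ c ∈ T, (φ c - 2) = 1 := by
    have e : ∑ c ∈ T, φ c = ∑ c ∈ T, ((φ c - 2) + 2) :=
      Finset.sum_congr rfl fun c hc => (Nat.sub_add_cancel (h2 c hc)).symm
    rw [Finset.sum_add_distrib, Finset.sum_const, smul_eq_mul] at e
    omega
  have hmemT : ∀ x ∈ (P : Subgroup G), x ≠ 1 → ConjClasses.mk x ∈ T := fun x hx hx1 =>
    Finset.mem_image_of_mem _ (Finset.mem_filter.2 ⟨Finset.mem_univ _, hx, hx1⟩)
  have hφ : ∀ x ∈ (P : Subgroup G), x ≠ 1 → φ (ConjClasses.mk x) = (inSyl P x).card := fun x hx hx1 => by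
    show Finset.card _ = _
    rw [hfib x hx hx1]
  refine ⟨fun x hx hx1 => ?_, fun x hx y hy hx1 hy1 hcx hcy => ?_⟩
  · have ha := h2 _ (hmemT x hx hx1)
    have hb := Finset.single_le_sum (f := fun c => φ c - 2) (fun c _ => Nat.zero_le _) (hmemT x hx hx1)
    rw [hex] at hb
    rw [hφ x hx hx1] at ha
    simp only [hφ x hx hx1] at hb
    omega
  · by_contra hne
    have hne' : ConjClasses.mk x ≠ ConjClasses.mk y := fun e => hne (ConjClasses.mk_eq_mk_iff_isConj.1 e)
    have hsub : ({ConjClasses.mk x, ConjClasses.mk y} : Finset (ConjClasses G)) ⊆ T := by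
      intro c hc
      rcases Finset.mem_insert.1 hc with rfl | hc
      · exact hmemT x hx hx1
      · rw [Finset.mem_singleton] at hc; subst hc; exact hmemT y hy hy1
    have hle := Finset.sum_le_sum_of_subset hsub (f := fun c => φ c - 2)
    rw [hex, Finset.sum_pair hne', hφ x hx hx1, hφ y hy hy1, hcx, hcy] at hle
    omega

/-- A normalising element whose square fixes a central element fixes it. -/
theorem fix_of_sq (P : Sylow 2 G) {n x : G} (hn : n ∈ normalizer ((P : Subgroup G) : Set G))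
    (hx : ∀ p ∈ (P : Subgroup G), p * x = x * p) (h2 : Commute (n * n) x) : Commute n x := by
  haveI : Fact (Nat.Prime 2) := ⟨Nat.prime_two⟩
  set P' := (P : Subgroup G).subgroupOf (normalizer ((P : Subgroup G) : Set G))
  haveI : P'.Normal := normal_in_normalizer
  have hpow : n ^ P'.index ∈ (P : Subgroup G) := by
    have := pow_index_mem (H := P') ⟨n, hn⟩
    simpa [P', mem_subgroupOf] using this
  have hodd : Odd P'.index := by
    rw [← Nat.not_even_iff_odd]
    intro he
    exact P.not_dvd_index (he.two_dvd.trans (relIndex_dvd_index_of_le le_normalizer))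
  obtain ⟨i, hi⟩ := hodd
  have h3 : Commute ((n * n) ^ i * n) x := by
    rw [← pow_two, ← pow_mul, ← pow_succ, ← hi]
    exact hx _ hpow
  have h4 := (h2.pow_left i).inv_left.mul_left h3
  rwa [inv_mul_cancel_left] at h4

theorem central_partner (P : Sylow 2 G) {x y : G} (hx : x ∈ (P : Subgroup G)) (hy : y ∈ (P : Subgroup G))
    (hxc : ∀ p ∈ (P : Subgroup G), p * x = x * p) (hyc : ∀ p ∈ (P : Subgroup G), p * y = y * p)
    (hcx : IsConj x y) (hcard : ∀ w ∈ inSyl P x, w = x ∨ w = y) : x = y := by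
  haveI : Fact (Nat.Prime 2) := ⟨Nat.prime_two⟩
  by_contra hne
  obtain ⟨g, hg⟩ := isConj_iff.1 hcx
  have hN : ∀ w : G, (∀ p ∈ (P : Subgroup G), p * w = w * p) → (P : Subgroup G) ≤ normalizer ({w} : Set G) := by
    intro w hw p hp
    rw [Subgroup.mem_set_normalizer_iff]
    intro v
    simp only [Set.mem_singleton_iff]
    constructor
    · rintro rfl; rw [hw p hp, mul_inv_cancel_right]
    · intro h
      calc v = p⁻¹ * (p * v * p⁻¹) * p := by group
        _ = p⁻¹ * (w * p) := by rw [h, mul_assoc]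
        _ = w := by rw [← hw p hp, inv_mul_cancel_left]
  obtain ⟨n, hn, hnx⟩ := Cfsg.Lib.Transfer.burnside_fusion_set P {x} {y} (hN x hxc) (hN y hyc) g
    (by rw [Set.image_singleton, hg])
  rw [Set.image_singleton, Set.singleton_eq_singleton_iff] at hnx
  have hny : n * y * n⁻¹ = x := by
    rcases hcard (n * y * n⁻¹) (mem_inSyl.2 ⟨(mem_normalizer_iff.1 hn y).1 hy,
      hcx.trans (isConj_iff.2 ⟨n, rfl⟩)⟩) with h | h
    · exact h
    · exact absurd (mul_left_cancel (mul_right_cancel (hnx.trans h.symm))) hne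
  have h2 : Commute (n * n) x := mul_inv_eq_iff_eq_mul.1 (by
    calc n * n * x * (n * n)⁻¹ = n * (n * x * n⁻¹) * n⁻¹ := by group
      _ = x := by rw [hnx, hny])
  have h1 := fix_of_sq P hn hxc h2
  apply hne
  rw [← hnx, h1.eq, mul_inv_cancel_right]

/-- The possible shapes of the Sylow subgroup. -/
theorem shape (P : Sylow 2 G)
    (hall : ∀ z ∈ (P : Subgroup G), z ≠ 1 → ∃ y ∈ (P : Subgroup G), y ≠ z ∧ IsConj z y)
    (hk : 2 * Nat.card (Cl G) = Nat.card ↥(P : Subgroup G)) :
    IsKleinFour ↥(P : Subgroup G) ∨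
      (Nat.card ↥(P : Subgroup G) = 8 ∧ ∃ V : Subgroup G, V ≤ (P : Subgroup G) ∧ IsKleinFour ↥V ∧
        (∀ p ∈ (P : Subgroup G), p ∈ centralizer (V : Set G) → p ∈ V) ∧
        ∀ x ∈ (P : Subgroup G), ∀ y ∈ (P : Subgroup G), IsConj x y → x⁻¹ * y ∈ V) := by
  classical
  haveI : Fact (Nat.Prime 2) := ⟨Nat.prime_two⟩
  haveI : Fintype G := Fintype.ofFinite G
  obtain ⟨h23, h33⟩ := count_exact P hall hk
  -- central elements lie in the class meeting `P` three times
  have hcen3 : ∀ x ∈ (P : Subgroup G), x ≠ 1 → (∀ p ∈ (P : Subgroup G), p * x = x * p) →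
      (inSyl P x).card = 3 := by
    intro x hx hx1 hxc
    refine (h23 x hx hx1).resolve_left fun h2 => ?_
    obtain ⟨y, hy, hyx, hcxy⟩ := hall x hx hx1
    have hK : ({x, y} : Finset G) = inSyl P x := Finset.eq_of_subset_of_card_le
      (by intro w hw; rcases Finset.mem_insert.1 hw with rfl | hw
          · exact self_mem hx
          · rw [Finset.mem_singleton] at hw; subst hw; exact mem_inSyl.2 ⟨hy, hcxy⟩)
      (by rw [h2, Finset.card_pair hyx.symm])
    have hcard : ∀ w ∈ inSyl P x, w = x ∨ w = y := fun w hw => by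
      rw [← hK] at hw; simpa using hw
    by_cases hyc : ∀ p ∈ (P : Subgroup G), p * y = y * p
    · exact hyx (central_partner P hx hy hxc hyc hcxy hcard).symm
    · push_neg at hyc
      obtain ⟨p, hp, hpy⟩ := hyc
      rcases hcard (p * y * p⁻¹) (mem_inSyl.2 ⟨mul_mem (mul_mem hp hy) (inv_mem hp),
        hcxy.trans (isConj_iff.2 ⟨p, rfl⟩)⟩) with h | h
      · refine hyx ?_
        calc y = p⁻¹ * (p * y * p⁻¹) * p := by group
          _ = x := by rw [h, mul_assoc, ← hxc p hp, inv_mul_cancel_left]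
      · exact hpy (mul_inv_eq_iff_eq_mul.1 h)
  by_cases hcomm : ∀ p ∈ (P : Subgroup G), ∀ q ∈ (P : Subgroup G), p * q = q * p
  · -- abelian: four-group
    left
    have hne : (P : Subgroup G) ≠ ⊥ := by
      intro e
      rw [e, card_bot] at hk
      omega
    obtain ⟨z, hz, hz1⟩ := (P : Subgroup G).bot_or_exists_ne_one.resolve_left hne
    have hz3 := hcen3 z hz hz1 fun p hp => hcomm p hp z hz
    have hconj : ∀ x ∈ (P : Subgroup G), x ≠ 1 → IsConj z x := fun x hx hx1 =>
      h33 z hz x hx hz1 hx1 hz3 (hcen3 x hx hx1 fun p hp => hcomm p hp x hx)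
    have h4 : Nat.card ↥(P : Subgroup G) = 4 := by
      rw [Nat.card_eq_fintype_card, Fintype.card_subtype,
        show Finset.univ.filter (fun x : G => x ∈ (P : Subgroup G)) = insert 1 (inSyl P z) from ?_,
        Finset.card_insert_of_notMem, hz3]
      · intro h
        obtain ⟨g, hg⟩ := isConj_iff.1 (mem_inSyl.1 h).2
        exact hz1 (conj_eq_one_iff.1 hg)
      · ext x
        simp only [Finset.mem_filter, Finset.mem_univ, true_and, Finset.mem_insert, mem_inSyl]
        constructor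
        · intro hx
          by_cases h1 : x = 1
          · exact Or.inl h1
          · exact Or.inr ⟨hx, hconj x hx h1⟩
        · rintro (rfl | h)
          · exact one_mem _
          · exact h.1
    obtain ⟨w, hw⟩ := exists_prime_orderOf_dvd_card' (G := ↥(P : Subgroup G)) 2 (by rw [h4]; norm_num)
    have hw1 : (w : G) ≠ 1 := fun e => by
      rw [show w = 1 from Subtype.ext e, orderOf_one] at hw; omega
    refine Cfsg.Lib.GWFour.klein_of_sq h4 fun x => ?_
    by_cases hx : (x : G) = 1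
    · rw [show x = 1 from Subtype.ext hx, one_mul]
    · obtain ⟨g, hg⟩ := isConj_iff.1 ((hconj w w.2 hw1).symm.trans (hconj x x.2 hx))
      have ho : orderOf x = 2 := by
        rw [← orderOf_coe, ← hg, show orderOf (g * (w : G) * g⁻¹) = orderOf (w : G) from (MulAut.conj g).orderOf_eq _,
          orderOf_coe, hw]
      rw [← pow_two]
      exact orderOf_dvd_iff_pow_eq_one.1 ho.dvd
  -- non-abelian
  right
  obtain ⟨z, hz, hz1, hzc⟩ : ∃ z ∈ (P : Subgroup G), z ≠ 1 ∧ ∀ p ∈ (P : Subgroup G), p * z = z * p := by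
    haveI : Nontrivial ↥(P : Subgroup G) := by
      by_contra h
      haveI := not_nontrivial_iff_subsingleton.1 h
      exact hcomm fun p hp q hq => congrArg Subtype.val (Subsingleton.elim (⟨p, hp⟩ * ⟨q, hq⟩ : ↥(P : Subgroup G)) (⟨q, hq⟩ * ⟨p, hp⟩))
    haveI := IsPGroup.center_nontrivial P.2
    obtain ⟨z, hz⟩ := exists_ne (1 : center ↥(P : Subgroup G))
    exact ⟨(z : ↥(P : Subgroup G)), (z : ↥(P : Subgroup G)).2, fun e => hz (Subtype.ext (Subtype.ext e)),
      fun p hp => congrArg Subtype.val (mem_center_iff.1 z.2 ⟨p, hp⟩)⟩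
  have hz3 := hcen3 z hz hz1 hzc
  have hcenK : ∀ a ∈ (P : Subgroup G), a ≠ 1 → (∀ p ∈ (P : Subgroup G), p * a = a * p) → a ∈ inSyl P z :=
    fun a ha ha1 hac => mem_inSyl.2 ⟨ha, h33 z hz a ha hz1 ha1 hz3 (hcen3 a ha ha1 hac)⟩
  have hK1 : ∀ w ∈ inSyl P z, w ≠ 1 := fun w hw e => by
    obtain ⟨g, hg⟩ := isConj_iff.1 (mem_inSyl.1 hw).2
    exact hz1 (conj_eq_one_iff.1 (hg.trans e))
  obtain ⟨s, hsK, hsnc⟩ : ∃ s ∈ inSyl P z, ¬ ∀ p ∈ (P : Subgroup G), p * s = s * p := by
    by_contra hcon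
    push_neg at hcon
    obtain ⟨a, ha, haz⟩ := Finset.exists_mem_ne (by omega) z (s := inSyl P z)
    obtain ⟨g, hg⟩ := isConj_iff.1 (mem_inSyl.1 ha).2
    obtain ⟨n, hn, hna⟩ : ∃ n ∈ normalizer ((P : Subgroup G) : Set G), n * z * n⁻¹ = a := by
      have hN : ∀ w : G, (∀ p ∈ (P : Subgroup G), p * w = w * p) → (P : Subgroup G) ≤ normalizer ({w} : Set G) := by
        intro w hw p hp
        rw [Subgroup.mem_set_normalizer_iff]
        intro v
        simp only [Set.mem_singleton_iff]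
        constructor
        · rintro rfl; rw [hw p hp, mul_inv_cancel_right]
        · intro h
          calc v = p⁻¹ * (p * v * p⁻¹) * p := by group
            _ = p⁻¹ * (w * p) := by rw [h, mul_assoc]
            _ = w := by rw [← hw p hp, inv_mul_cancel_left]
      obtain ⟨n, hn, hnx⟩ := Cfsg.Lib.Transfer.burnside_fusion_set P {z} {a} (hN z hzc) (hN a (hcon a ha)) g
        (by rw [Set.image_singleton, hg])
      rw [Set.image_singleton, Set.singleton_eq_singleton_iff] at hnx
      exact ⟨n, hn, hnx⟩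
    -- the square of `n` centralises every noncentral element of `P`
    have hfix : ∀ x ∈ (P : Subgroup G), ¬ (∀ p ∈ (P : Subgroup G), p * x = x * p) → Commute (n * n) x := by
      intro x hx hxnc
      have hx1 : x ≠ 1 := fun e => hxnc fun p _ => by rw [e, one_mul, mul_one]
      have h2 : (inSyl P x).card = 2 := (h23 x hx hx1).resolve_right fun h3 =>
        hxnc (hcon x (mem_inSyl.2 ⟨hx, h33 z hz x hx hz1 hx1 hz3 h3⟩))
      obtain ⟨x', hx', hne⟩ := Finset.exists_mem_ne (by omega) x (s := inSyl P x)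
      have hK : ({x, x'} : Finset G) = inSyl P x := Finset.eq_of_subset_of_card_le
        (by intro w hw; rcases Finset.mem_insert.1 hw with rfl | hw
            · exact self_mem hx
            · rw [Finset.mem_singleton] at hw; subst hw; exact hx')
        (by rw [h2, Finset.card_pair hne.symm])
      have hmv : ∀ w ∈ inSyl P x, n * w * n⁻¹ = x ∨ n * w * n⁻¹ = x' := fun w hw => by
        have h := mem_inSyl.1 hw
        have : n * w * n⁻¹ ∈ inSyl P x :=
          mem_inSyl.2 ⟨(mem_normalizer_iff.1 hn w).1 h.1, h.2.trans (isConj_iff.2 ⟨n, rfl⟩)⟩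
        rw [← hK] at this; simpa using this
      refine mul_inv_eq_iff_eq_mul.1 ?_
      rw [show n * n * x * (n * n)⁻¹ = n * (n * x * n⁻¹) * n⁻¹ by group]
      rcases hmv x (self_mem hx) with h | h
      · rw [h, h]
      · rw [h]
        exact (hmv x' hx').resolve_right fun h' => hne (mul_left_cancel (mul_right_cancel (h.trans h'.symm))).symm
    push_neg at hcomm
    obtain ⟨p, hp, q, hq, hpq⟩ := hcomm
    have e1 := hfix q hq fun h => hpq (h p hp)
    have e2 := hfix (q * z) (mul_mem hq hz) fun h => hpq (by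
      apply mul_right_cancel (b := z)
      rw [mul_assoc, h p hp, mul_assoc, mul_assoc, hzc p hp])
    have e3 : Commute (n * n) z := by
      have := e1.inv_right.mul_right e2
      rwa [inv_mul_cancel_left] at this
    apply haz
    rw [← hna, (fix_of_sq P hn hzc e3).eq, mul_inv_cancel_right]
  obtain ⟨hs, hzs⟩ := mem_inSyl.1 hsK
  have hs1 := hK1 s hsK
  have hsz : s ≠ z := fun e => hsnc (e ▸ hzc)
  push_neg at hsnc
  obtain ⟨p₀, hp₀, hp₀s⟩ := hsnc
  set s' := p₀ * s * p₀⁻¹ with hs'd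
  have hs' : s' ∈ (P : Subgroup G) := mul_mem (mul_mem hp₀ hs) (inv_mem hp₀)
  have hss' : s' ≠ s := fun e => hp₀s (mul_inv_eq_iff_eq_mul.1 e)
  have hs'z : s' ≠ z := fun e => hsz (by
    calc s = p₀⁻¹ * (p₀ * s * p₀⁻¹) * p₀ := by group
      _ = p₀⁻¹ * z * p₀ := by rw [← hs'd, e]
      _ = z := by rw [mul_assoc, ← hzc p₀ hp₀, inv_mul_cancel_left])
  have hKz : ({z, s, s'} : Finset G) = inSyl P z := Finset.eq_of_subset_of_card_le
    (by
      intro w hw
      simp only [Finset.mem_insert, Finset.mem_singleton] at hw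
      rcases hw with rfl | rfl | rfl
      · exact self_mem hz
      · exact hsK
      · exact mem_inSyl.2 ⟨hs', hzs.trans (isConj_iff.2 ⟨p₀, rfl⟩)⟩)
    (by rw [hz3, Finset.card_eq_three.2 ⟨z, s, s', hsz.symm, hs'z.symm, hss'.symm, rfl⟩])
  have hZ2 : ∀ a ∈ (P : Subgroup G), (∀ p ∈ (P : Subgroup G), p * a = a * p) → a = 1 ∨ a = z := by
    intro a ha hac
    by_cases h1 : a = 1
    · exact Or.inl h1
    have h := hcenK a ha h1 hac
    rw [← hKz] at h
    simp only [Finset.mem_insert, Finset.mem_singleton] at h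
    rcases h with h | h | h
    · exact Or.inr h
    · exact absurd (hac p₀ hp₀) (h ▸ hp₀s)
    · exfalso
      have e := hac p₀ hp₀
      rw [h, hs'd] at e
      refine hp₀s (mul_inv_eq_iff_eq_mul.1 ?_)
      calc p₀ * s * p₀⁻¹ = p₀⁻¹ * (p₀ * (p₀ * s * p₀⁻¹)) := by group
        _ = s := by rw [e]; group
  -- commutators lie in the centre
  have hzz : z * z = 1 := by
    rcases hZ2 (z * z) (mul_mem hz hz) (fun p hp => by
      rw [← mul_assoc, hzc p hp, mul_assoc, hzc p hp, mul_assoc]) with h | h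
    · exact h
    · exact absurd (mul_left_cancel (h.trans (mul_one z).symm)) hz1
  have hcmz : ∀ p ∈ (P : Subgroup G), ∀ q ∈ (P : Subgroup G), p * q * p⁻¹ = q ∨ p * q * p⁻¹ = q * z := by
    intro p hp q hq
    have hc : ∀ w ∈ (P : Subgroup G), w * (q⁻¹ * (p * q * p⁻¹)) = q⁻¹ * (p * q * p⁻¹) * w := by
      intro w hw
      by_cases hwc : ∀ r ∈ (P : Subgroup G), r * w = w * r
      · exact (hwc _ (mul_mem (inv_mem hq) (mul_mem (mul_mem hp hq) (inv_mem hp)))).symm
      have hw1 : w ≠ 1 := fun e => hwc fun r _ => by rw [e, one_mul, mul_one]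
      -- `P` moves `w` among two elements
      have hpair : ∀ r ∈ (P : Subgroup G), ∀ r' ∈ (P : Subgroup G),
          r * w * r⁻¹ ≠ w → r' * w * r'⁻¹ ≠ w → r * w * r⁻¹ = r' * w * r'⁻¹ := by
        intro r hr r' hr' h1 h2
        have hmem : ∀ r ∈ (P : Subgroup G), r * w * r⁻¹ ∈ inSyl P w := fun r hr =>
          mem_inSyl.2 ⟨mul_mem (mul_mem hr hw) (inv_mem hr), isConj_iff.2 ⟨r, rfl⟩⟩
        rcases h23 w hw hw1 with hc2 | hc3
        · by_contra hne
          have := Finset.card_le_card (show ({w, r * w * r⁻¹, r' * w * r'⁻¹} : Finset G) ⊆ inSyl P w by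
            intro v hv
            simp only [Finset.mem_insert, Finset.mem_singleton] at hv
            rcases hv with rfl | rfl | rfl
            exacts [self_mem hw, hmem r hr, hmem r' hr'])
          rw [hc2, Finset.card_eq_three.2 ⟨_, _, _, Ne.symm h1, Ne.symm h2, hne, rfl⟩] at this
          omega
        · have hKw : inSyl P w = inSyl P z := inSyl_eq (h33 w hw z hz hw1 hz1 hc3 hz3)
          have hnz : ∀ r ∈ (P : Subgroup G), r * w * r⁻¹ ≠ z := fun r hr e => hwc fun r' hr' => by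
            have : w = z := by
              calc w = r⁻¹ * (r * w * r⁻¹) * r := by group
                _ = z := by rw [e, mul_assoc, ← hzc r hr, inv_mul_cancel_left]
            rw [this]; exact hzc r' hr'
          have a0 := hKw ▸ self_mem hw
          have a1 := hKw ▸ hmem r hr
          have a2 := hKw ▸ hmem r' hr'
          have hwz : w ≠ z := fun e => hwc (e ▸ hzc)
          rw [← hKz] at a0 a1 a2
          simp only [Finset.mem_insert, Finset.mem_singleton, hwz, hnz r hr, hnz r' hr', false_or] at a0 a1 a2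
          rcases a0 with a0 | a0 <;> rcases a1 with a1 | a1 <;> rcases a2 with a2 | a2 <;>
            first
              | exact a1.trans a2.symm
              | exact absurd (a1.trans a0.symm) h1
              | exact absurd (a2.trans a0.symm) h2
      -- so the commutator fixes `w`
      push_neg at hwc
      obtain ⟨r₀, hr₀, hr₀w⟩ := hwc
      have hmov : r₀ * w * r₀⁻¹ ≠ w := fun e => hr₀w (mul_inv_eq_iff_eq_mul.1 e)
      set w₁ := r₀ * w * r₀⁻¹ with hw₁
      have hto : ∀ r ∈ (P : Subgroup G), r * w * r⁻¹ = w ∨ r * w * r⁻¹ = w₁ := fun r hr => by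
        by_cases h : r * w * r⁻¹ = w
        · exact Or.inl h
        · exact Or.inr (hpair r hr r₀ hr₀ h hmov)
      have hact : ∀ r ∈ (P : Subgroup G), (r * w * r⁻¹ = w ∧ r * w₁ * r⁻¹ = w₁ ∧ r⁻¹ * w * r = w ∧ r⁻¹ * w₁ * r = w₁) ∨
          (r * w * r⁻¹ = w₁ ∧ r * w₁ * r⁻¹ = w ∧ r⁻¹ * w * r = w₁ ∧ r⁻¹ * w₁ * r = w) := by
        intro r hr
        have h1 : r * w₁ * r⁻¹ = (r * r₀) * w * (r * r₀)⁻¹ := by rw [hw₁]; group
        have hinv : ∀ u v : G, r * u * r⁻¹ = v → r⁻¹ * v * r = u := fun u v e => by rw [← e]; group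
        have hinj : ∀ u v : G, r * u * r⁻¹ = r * v * r⁻¹ → u = v := fun u v e => mul_left_cancel (mul_right_cancel e)
        rcases hto r hr with e | e <;> rcases h1 ▸ hto (r * r₀) (mul_mem hr hr₀) with e' | e'
        · exact absurd (hinj _ _ (e'.trans e.symm)) hmov
        · exact Or.inl ⟨e, e', hinv _ _ e, hinv _ _ e'⟩
        · exact Or.inr ⟨e, e', hinv _ _ e', hinv _ _ e⟩
        · exact absurd (hinj _ _ (e'.trans e.symm)) hmov
      have key : Commute (q⁻¹ * (p * q * p⁻¹)) w := by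
        refine mul_inv_eq_iff_eq_mul.1 ?_
        rw [show q⁻¹ * (p * q * p⁻¹) * w * (q⁻¹ * (p * q * p⁻¹))⁻¹ = q⁻¹ * (p * (q * (p⁻¹ * w * p) * q⁻¹) * p⁻¹) * q by group]
        rcases hact p hp with ⟨p1, p2, p3, p4⟩ | ⟨p1, p2, p3, p4⟩ <;>
          rcases hact q hq with ⟨q1, q2, q3, q4⟩ | ⟨q1, q2, q3, q4⟩
        · rw [p3, q1, p1, q3]
        · rw [p3, q1, p2, q4]
        · rw [p3, q2, p2, q3]
        · rw [p3, q2, p1, q4]
      exact key.symm.eq
    rcases hZ2 _ (mul_mem (inv_mem hq) (mul_mem (mul_mem hp hq) (inv_mem hp))) hc with h | h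
    · exact Or.inl (inv_mul_eq_one.1 h).symm
    · exact Or.inr (inv_mul_eq_iff_eq_mul.1 h)
  have hs'e : s' = s * z := (hcmz p₀ hp₀ s hs).resolve_left hss'
  have hss : s * s = 1 := by
    obtain ⟨g, hg⟩ := isConj_iff.1 hzs
    rw [← hg, show g * z * g⁻¹ * (g * z * g⁻¹) = g * (z * z) * g⁻¹ by group, hzz, mul_one, mul_inv_cancel]
  set Q : Subgroup G := (P : Subgroup G) ⊓ centralizer ({s} : Set G) with hQd
  have hQmem : ∀ {x : G}, x ∈ Q ↔ x ∈ (P : Subgroup G) ∧ x * s = s * x := fun {x} => by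
    rw [hQd, mem_inf, mem_centralizer_singleton_iff]
  have hout : ∀ x ∈ (P : Subgroup G), x ∉ Q → x * s * x⁻¹ = s * z := fun x hx hxQ =>
    (hcmz x hx s hs).resolve_left fun h => hxQ (hQmem.2 ⟨hx, mul_inv_eq_iff_eq_mul.1 h⟩)
  have hdiff : ∀ x ∈ (P : Subgroup G), x ∉ Q → ∀ y ∈ (P : Subgroup G), y ∉ Q → x⁻¹ * y ∈ Q := fun x hx hxQ y hy hyQ =>
    hQmem.2 ⟨mul_mem (inv_mem hx) hy, mul_inv_eq_iff_eq_mul.1 (by
      rw [show x⁻¹ * y * s * (x⁻¹ * y)⁻¹ = x⁻¹ * (y * s * y⁻¹) * x by group, hout y hy hyQ, ← hout x hx hxQ]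
      group)⟩
  have hQab : ∀ a ∈ Q, ∀ b ∈ Q, a * b = b * a := by
    intro a ha b hb
    obtain ⟨g₀, hg₀⟩ := isConj_iff.1 hzs.symm
    set C := centralizer ({z} : Set G)
    have hPC : (P : Subgroup G) ≤ C := fun w hw => mem_centralizer_singleton_iff.2 (hzc w hw)
    have hQ1 : Q.map (MulAut.conj g₀).toMonoidHom ≤ C := by
      rintro _ ⟨w, hw, rfl⟩
      have hws := (hQmem.1 hw).2
      refine mem_centralizer_singleton_iff.2 ?_
      simp only [MulEquiv.coe_toMonoidHom, MulAut.conj_apply]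
      rw [← hg₀]
      calc g₀ * w * g₀⁻¹ * (g₀ * s * g₀⁻¹) = g₀ * (w * s) * g₀⁻¹ := by group
        _ = g₀ * (s * w) * g₀⁻¹ := by rw [hws]
        _ = _ := by group
    obtain ⟨R, hR⟩ := (((P.2.to_le (inf_le_left : Q ≤ P)).map (MulAut.conj g₀).toMonoidHom).comap_subtype (K := C)).exists_le_sylow
    obtain ⟨c, hc⟩ := MulAction.exists_smul_eq C R (P.subtype hPC)
    set g := (c : G) * g₀ with hgd
    have hgs : g * s * g⁻¹ = z := by
      rw [hgd, show (c : G) * g₀ * s * ((c : G) * g₀)⁻¹ = (c : G) * (g₀ * s * g₀⁻¹) * (c : G)⁻¹ by group, hg₀,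
        mem_centralizer_singleton_iff.1 c.2, mul_inv_cancel_right]
    have hgQ : ∀ w ∈ Q, g * w * g⁻¹ ∈ (P : Subgroup G) := by
      intro w hw
      have hm : g₀ * w * g₀⁻¹ ∈ Q.map (MulAut.conj g₀).toMonoidHom := ⟨w, hw, rfl⟩
      have h1 : c * ⟨_, hQ1 hm⟩ * c⁻¹ ∈ ((P.subtype hPC : Sylow 2 C) : Subgroup C) := by
        rw [← hc, Sylow.coe_subgroup_smul]
        exact ⟨⟨_, hQ1 hm⟩, hR (show (⟨_, hQ1 hm⟩ : C) ∈ (Q.map (MulAut.conj g₀).toMonoidHom).subgroupOf C from hm), rfl⟩
      have h2 : (c : G) * (g₀ * w * g₀⁻¹) * (c : G)⁻¹ ∈ (P : Subgroup G) := h1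
      rw [hgd]
      convert h2 using 1
      group
    by_contra hab
    have e := (hcmz a (hQmem.1 ha).1 b (hQmem.1 hb).1).resolve_left fun h => hab (mul_inv_eq_iff_eq_mul.1 h)
    have he : g * a * g⁻¹ * (g * b * g⁻¹) * (g * a * g⁻¹)⁻¹ = g * b * g⁻¹ * (g * z * g⁻¹) := by
      calc g * a * g⁻¹ * (g * b * g⁻¹) * (g * a * g⁻¹)⁻¹ = g * (a * b * a⁻¹) * g⁻¹ := by group
        _ = _ := by rw [e]; group
    rcases hcmz _ (hgQ a ha) _ (hgQ b hb) with h | h
    · rw [he] at h
      exact hz1 (conj_eq_one_iff.1 (mul_eq_left.1 h))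
    · rw [he] at h
      exact hsz (mul_left_cancel (mul_right_cancel (hgs.trans (mul_left_cancel h).symm)))
  have hp₀Q : p₀ ∉ Q := fun h => hp₀s (hQmem.1 h).2
  have hQ4 : ∀ q ∈ Q, q = 1 ∨ q = z ∨ q = s ∨ q = s * z := by
    intro q hq
    have hqP := (hQmem.1 hq).1
    have hcen : ∀ q ∈ Q, p₀ * q * p₀⁻¹ = q → q = 1 ∨ q = z := fun q hq h => by
      refine hZ2 q (hQmem.1 hq).1 fun p hp => ?_
      by_cases hpQ : p ∈ Q
      · exact hQab p hpQ q hq
      · have h1 := hQab _ (hdiff p₀ hp₀ hp₀Q p hp hpQ) q hq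
        calc p * q = p₀ * (p₀⁻¹ * p * q) := by group
          _ = p₀ * q * p₀⁻¹ * p := by rw [h1]; group
          _ = q * p := by rw [h]
    rcases hcmz p₀ hp₀ q hqP with h | h
    · exact (hcen q hq h).imp id Or.inl
    · have hsQ : s ∈ Q := hQmem.2 ⟨hs, rfl⟩
      have h' : p₀ * (q * s) * p₀⁻¹ = q * s := by
        rw [show p₀ * (q * s) * p₀⁻¹ = p₀ * q * p₀⁻¹ * (p₀ * s * p₀⁻¹) by group, h, ← hs'd, hs'e, mul_assoc,
          ← mul_assoc z s z, ← hzc s hs, mul_assoc s z z, hzz, mul_one]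
      rcases hcen _ (mul_mem hq hsQ) h' with e | e
      · exact Or.inr (Or.inr (Or.inl (mul_right_cancel (e.trans hss.symm))))
      · refine Or.inr (Or.inr (Or.inr ?_))
        rw [hzc s hs]
        apply mul_right_cancel (b := s)
        rw [e, mul_assoc, hss, mul_one]
  have hzQ : z ∈ Q := hQmem.2 ⟨hz, (hzc s hs).symm⟩
  have hsQ : s ∈ Q := hQmem.2 ⟨hs, rfl⟩
  have hQc : Nat.card Q = 4 := by
    have hsz1 : s * z ≠ 1 := fun e => hsz (mul_right_cancel (e.trans hzz.symm))
    rw [Nat.card_eq_fintype_card, Fintype.card_subtype,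
      show Finset.univ.filter (fun x : G => x ∈ Q) = {1, z, s, s * z} from ?_]
    · rw [Finset.card_insert_of_notMem (by simp [Ne.symm hz1, Ne.symm hs1, Ne.symm hsz1]),
        Finset.card_eq_three.2 ⟨z, s, s * z, hsz.symm, fun e => hs1 (right_eq_mul.1 e), fun e => hz1 (left_eq_mul.1 e), rfl⟩]
    · ext x
      simp only [Finset.mem_filter, Finset.mem_univ, true_and, Finset.mem_insert, Finset.mem_singleton]
      refine ⟨hQ4 x, ?_⟩
      rintro (rfl | rfl | rfl | rfl)
      exacts [one_mem _, hzQ, hsQ, mul_mem hsQ hzQ]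
  have hP8 : Nat.card ↥(P : Subgroup G) = 8 := by
    have hrel : (Q.subgroupOf (P : Subgroup G)).index = 2 := by
      rw [index_eq_two_iff']
      refine ⟨⟨p₀, hp₀⟩, fun b => ?_⟩
      simp only [mem_subgroupOf, Subgroup.coe_mul]
      by_cases hb : (b : G) ∈ Q
      · exact Or.inr ⟨hb, fun h => hp₀Q ((Q.mul_mem_cancel_right hb).1 h)⟩
      · left
        refine ⟨?_, hb⟩
        have hp' : p₀⁻¹ ∉ Q := fun h => hp₀Q (inv_inv p₀ ▸ inv_mem h)
        simpa using hdiff p₀⁻¹ (inv_mem hp₀) hp' b b.2 hb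
    rw [← (Q.subgroupOf (P : Subgroup G)).card_mul_index, hrel,
      Nat.card_congr (subgroupOfEquivOfLe (inf_le_left : Q ≤ P)).toEquiv, hQc]
  refine ⟨hP8, Q, inf_le_left, Cfsg.Lib.GWFour.klein_of_sq hQc fun x => Subtype.ext ?_,
    fun p hp hpc => hQmem.2 ⟨hp, (mem_centralizer_iff.1 hpc s hsQ).symm⟩, fun x hx y hy hxy => ?_⟩
  · show (x : G) * x = 1
    rcases hQ4 x x.2 with h | h | h | h <;> rw [h]
    · rw [one_mul]
    · exact hzz
    · exact hss
    · rw [mul_assoc, ← mul_assoc z, ← hzc s hs, mul_assoc s z z, hzz, mul_one, hss]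
  by_cases hxQ : x ∈ Q
  · refine mul_mem (inv_mem hxQ) ?_
    by_cases hx1 : x = 1
    · obtain ⟨g, hg⟩ := isConj_iff.1 hxy
      rw [hx1, mul_one, mul_inv_cancel] at hg
      exact hg ▸ one_mem _
    · have hxz : IsConj z x := by
        rcases hQ4 x hxQ with rfl | rfl | rfl | rfl
        · exact absurd rfl hx1
        · exact IsConj.refl _
        · exact hzs
        · rw [← hs'e]; exact hzs.trans (isConj_iff.2 ⟨p₀, rfl⟩)
      have h := mem_inSyl.2 ⟨hy, hxz.trans hxy⟩
      rw [← hKz] at h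
      simp only [Finset.mem_insert, Finset.mem_singleton] at h
      rcases h with rfl | rfl | rfl
      exacts [hzQ, hsQ, hs'e ▸ mul_mem hsQ hzQ]
  · have hx1 : x ≠ 1 := fun e => hxQ (e ▸ one_mem _)
    have h2 : (inSyl P x).card = 2 := (h23 x hx hx1).resolve_right fun h3 => hxQ (by
      have h := self_mem (P := P) hx
      rw [inSyl_eq (h33 x hx z hz hx1 hz1 h3 hz3), ← hKz] at h
      simp only [Finset.mem_insert, Finset.mem_singleton] at h
      rcases h with rfl | rfl | rfl
      exacts [hzQ, hsQ, hs'e ▸ mul_mem hsQ hzQ])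
    have hsx : s * x * s⁻¹ = x * z := (hcmz s hs x hx).resolve_left fun h =>
      hxQ (hQmem.2 ⟨hx, (mul_inv_eq_iff_eq_mul.1 h).symm⟩)
    have hK : ({x, x * z} : Finset G) = inSyl P x := Finset.eq_of_subset_of_card_le
      (by intro w hw; rcases Finset.mem_insert.1 hw with rfl | hw
          · exact self_mem hx
          · rw [Finset.mem_singleton] at hw; subst hw
            exact mem_inSyl.2 ⟨mul_mem hx hz, isConj_iff.2 ⟨s, hsx⟩⟩)
      (by rw [h2, Finset.card_pair fun e => hz1 (left_eq_mul.1 e)])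
    have h := mem_inSyl.2 ⟨hy, hxy⟩
    rw [← hK] at h
    simp only [Finset.mem_insert, Finset.mem_singleton] at h
    rcases h with rfl | rfl
    · simp
    · rw [inv_mul_cancel_left]; exact hzQ

end Cfsg.Lib.HalfClasses
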